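import Groth.Agent.SurfInt.InterCM
import Groth.Agent.GrpSchLib.SmoothRegular
import Groth.Agent.LC.Annihilator

/-!
# Local rings of smooth varieties at closed points
-/

universe u

set_option autoImplicit false
set_option linter.style.haveILetI false

open CategoryTheory AlgebraicGeometry

namespace Groth.Agent.ExtDual45

theorem le_depth_of_smooth (k : Type u) [Field k] {X : Scheme.{u}} [X.Over (Spec (CommRingCat.of k))] [IsIntegral X]
    [Smooth (X ↘ Spec (CommRingCat.of k))] (n : ℕ) (hn : topologicalKrullDim X = n) (x : X)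
    (hx : IsClosed ({x} : Set X)) :
    (n : ℕ∞) ≤ LocCoh.depth (X.presheaf.stalk x) (X.presheaf.stalk x) := by
  haveI := GrpSchLib.isRegularLocalRing_stalk_of_smooth (X ↘ Spec (CommRingCat.of k)) x
  haveI := LC.gorenstein_of_isRegularLocalRing (R := X.presheaf.stalk x)
  have h2 : ((n : ℕ) : WithBot ℕ∞) ≤ ringKrullDim (X.presheaf.stalk x) :=
    SurfInt.le_ringKrullDim_stalk k hx isClosed_univ (IrreducibleSpace.isIrreducible_univ (X : Type u))
      (Set.mem_univ x) (((Homeomorph.Set.univ X).isHomeomorph.topologicalKrullDim_eq).trans hn)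
  obtain ⟨d, hd, hδ, -⟩ := LC.gorenstein_basic (R := X.presheaf.stalk x)
  rw [hd] at h2
  rw [hδ]
  exact WithBot.coe_le_coe.1 h2

end Groth.Agent.ExtDual45
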